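import Cfsg.Agent.Lib.OrthIso.Frame

/-! The commutator subgroup of the isometry group is the group of the Eichler transformations. -/

set_option autoImplicit false

namespace CfsgLib.OrthIso

open QuadraticMap CfsgLib.Orth
open scoped commutatorElement

variable {ι : Type} [Fintype ι] [DecidableEq ι] {F : Type*} [Field F]
variable {Q : QuadraticForm F (ι → F)} {m : ℕ} (Fr : Frame Q m)

namespace Frame

theorem decomp (a : ι → F) : a = ∑ b, a b • (Pi.single b 1 : ι → F) := by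
  funext c; simp [Pi.single_apply]

theorem p_rest {a : ι} (ha : ∀ i, a ≠ Fr.xc i ∧ a ≠ Fr.yc i) (i : Fin m) :
    polar Q (Pi.single a 1) (Fr.x i) = 0 ∧ polar Q (Pi.single a 1) (Fr.y i) = 0 := by
  obtain ⟨k, hk | hk⟩ | ⟨-, h⟩ := Fr.rest a
  · exact absurd hk (ha k).1
  · exact absurd hk (ha k).2
  · rw [x, y, Fr.hpol, Fr.hpol, (h i).1, (h i).2, Int.cast_zero]; exact ⟨rfl, rfl⟩

theorem Q_rest {a : ι} (ha : ∀ i, a ≠ Fr.xc i ∧ a ≠ Fr.yc i) : Q (Pi.single a 1) = 1 := by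
  obtain ⟨k, hk | hk⟩ | ⟨h, -⟩ := Fr.rest a
  · exact absurd hk (ha k).1
  · exact absurd hk (ha k).2
  · rw [Fr.hqd, h, Int.cast_one]

theorem exists_pair_move {i j : Fin m} (hij : i ≠ j) :
    ∃ g ∈ Fr.eichSub, app g (Fr.x i) = Fr.x j ∧ app g (Fr.y i) = Fr.y j := by
  have hji := Ne.symm hij
  have a1 : polar Q (Fr.x j) (-Fr.y i) = 0 ∧ polar Q (Fr.y j) (-Fr.y i) = 0 := by
    rw [polar_neg_right, polar_neg_right, Fr.p_xy, Fr.p_yy, if_neg hji]; simp
  have b1 : polar Q (Fr.x i) (Fr.y j) = 0 ∧ polar Q (Fr.y i) (Fr.y j) = 0 := by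
    rw [Fr.p_xy, Fr.p_yy, if_neg hij]; simp
  refine ⟨eich Q (Fr.x j) (-Fr.y i) * eich Q (Fr.x i) (Fr.y j) * eich Q (Fr.x j) (-Fr.y i),
    mul_mem (mul_mem (Fr.eich_x_mem a1.1 a1.2) (Fr.eich_x_mem b1.1 b1.2))
      (Fr.eich_x_mem a1.1 a1.2), ?_, ?_⟩
  · simp only [app_mul, app_eich (Fr.Q_x j) a1.1, app_eich (Fr.Q_x i) b1.1, polar_neg_right,
      polar_add_left, polar_smul_left, polar_neg_left, QuadraticMap.map_neg, Fr.Q_y, Fr.p_xx, Fr.p_xy,
      Fr.p_yx, Fr.p_yy, if_neg hij, if_neg hji, if_true, smul_eq_mul]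
    module
  · simp only [app_mul, app_eich (Fr.Q_x j) a1.1, app_eich (Fr.Q_x i) b1.1, polar_neg_right,
      polar_add_left, polar_smul_left, polar_neg_left, QuadraticMap.map_neg, Fr.Q_y, Fr.p_xx, Fr.p_xy,
      Fr.p_yx, Fr.p_yy, if_neg hij, if_neg hji, if_true, smul_eq_mul]
    module

theorem gen_conj {g : O Q} {i : Fin m} {u a : ι → F} (hu : u = Fr.x i ∨ u = Fr.y i)
    (h1 : polar Q (Fr.x i) a = 0) (h2 : polar Q (Fr.y i) a = 0)
    (hg : ∀ v, polar Q (Fr.x i) v = 0 → polar Q (Fr.y i) v = 0 →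
      polar Q (Fr.x i) (app g v) = 0 ∧ polar Q (Fr.y i) (app g v) = 0)
    (hgu : ∃ c : F, app g u = c • Fr.x i ∨ app g u = c • Fr.y i) :
    g * eich Q u a * g⁻¹ ∈ Fr.eichSub := by
  have hQu : Q u = 0 := by rcases hu with rfl | rfl; exacts [Fr.Q_x i, Fr.Q_y i]
  have hpu : polar Q u a = 0 := by rcases hu with rfl | rfl <;> assumption
  obtain ⟨g1, g2⟩ := hg a h1 h2
  obtain ⟨c, hc | hc⟩ := hgu
  · rw [eich_conj hQu hpu, hc, CfsgLib.POmega.eich_smul (Fr.Q_x i) g1]
    exact Fr.eich_x_mem (by rw [polar_smul_right, g1, smul_zero]) (by rw [polar_smul_right, g2, smul_zero])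
  · rw [eich_conj hQu hpu, hc, CfsgLib.POmega.eich_smul (Fr.Q_y i) g2]
    exact Fr.eich_y_mem (by rw [polar_smul_right, g1, smul_zero]) (by rw [polar_smul_right, g2, smul_zero])

theorem reflSet_conj {s : O Q} (hs : s ∈ Fr.reflSet) {n : O Q} (hn : n ∈ Fr.eichSub) :
    s * n * s⁻¹ ∈ Fr.eichSub := by
  induction hn using Subgroup.closure_induction with
  | mem g hg =>
    obtain ⟨i, u, a, hu, h1, h2, rfl⟩ := hg
    rcases hs with ⟨k, c, hc, rfl⟩ | ⟨b, hb, rfl⟩
    · by_cases hki : k = i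
      · subst hki
        refine Fr.gen_conj hu h1 h2 (fun v v1 v2 => ?_) ?_
        · rw [Fr.app_refl_perp k c (by rw [polar_comm, v1]) (by rw [polar_comm, v2])]; exact ⟨v1, v2⟩
        · rcases hu with rfl | rfl
          · exact ⟨c, Or.inr (Fr.app_refl_x k hc)⟩
          · exact ⟨c⁻¹, Or.inl (Fr.app_refl_y k hc)⟩
      · obtain ⟨fx, fy⟩ := Fr.fix_refl_pair (Ne.symm hki) c
        refine Fr.gen_conj hu h1 h2 (fun v v1 v2 => ⟨?_, ?_⟩) ?_
        · conv_lhs => rw [← fx]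
          rw [polar_app, v1]
        · conv_lhs => rw [← fy]
          rw [polar_app, v2]
        · rcases hu with rfl | rfl
          · exact ⟨1, Or.inl (by rw [fx, one_smul])⟩
          · exact ⟨1, Or.inr (by rw [fy, one_smul])⟩
    · obtain ⟨q1, q2⟩ := Fr.p_rest hb i
      have fx : app (refl Q (Pi.single b 1)) (Fr.x i) = Fr.x i :=
        app_refl_of_ortho (by rw [polar_comm, q1])
      have fy : app (refl Q (Pi.single b 1)) (Fr.y i) = Fr.y i :=
        app_refl_of_ortho (by rw [polar_comm, q2])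
      refine Fr.gen_conj hu h1 h2 (fun v v1 v2 => ⟨?_, ?_⟩) ?_
      · conv_lhs => rw [← fx]
        rw [polar_app, v1]
      · conv_lhs => rw [← fy]
        rw [polar_app, v2]
      · rcases hu with rfl | rfl
        · exact ⟨1, Or.inl (by rw [fx, one_smul])⟩
        · exact ⟨1, Or.inr (by rw [fy, one_smul])⟩
  | one => rw [mul_one, mul_inv_cancel]; exact one_mem _
  | mul x y _ _ hx hy =>
    rw [show s * (x * y) * s⁻¹ = (s * x * s⁻¹) * (s * y * s⁻¹) by group]
    exact mul_mem hx hy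
  | inv x _ hx =>
    rw [show s * x⁻¹ * s⁻¹ = (s * x * s⁻¹)⁻¹ by group]
    exact inv_mem hx

theorem reflSet_inv {s : O Q} (hs : s ∈ Fr.reflSet) : s⁻¹ = s := by
  rcases hs with ⟨i, c, -, rfl⟩ | ⟨b, -, rfl⟩ <;> exact refl_inv _

theorem eichSub_normal (htop : Fr.bigSub = ⊤) : Fr.eichSub.Normal := by
  refine Subgroup.normalizer_eq_top_iff.1 (eq_top_iff.2 (htop ▸ sup_le Subgroup.le_normalizer ?_))
  refine (Subgroup.closure_le _).2 fun s hs => Subgroup.mem_normalizer_iff.2 fun n => ?_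
  refine ⟨fun hn => Fr.reflSet_conj hs hn, fun hn => ?_⟩
  have h := Fr.reflSet_conj hs hn
  rw [Fr.reflSet_inv hs] at h
  have hss : s * s = 1 := mul_eq_one_iff_eq_inv.2 (Fr.reflSet_inv hs).symm
  rwa [mul_assoc s n s, ← mul_assoc s s, hss, one_mul, mul_assoc, hss, mul_one] at h

theorem reflPair_commute {i j : Fin m} (hij : i ≠ j) (c d : F) :
    Commute (refl Q (Fr.x i - c • Fr.y i)) (refl Q (Fr.x j - d • Fr.y j)) := by
  obtain ⟨fx, fy⟩ := Fr.fix_refl_pair (Ne.symm hij) c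
  have h := refl_conj (refl Q (Fr.x i - c • Fr.y i)) (Fr.x j - d • Fr.y j)
  rw [map_sub, map_smul, fx, fy] at h
  exact mul_inv_eq_iff_eq_mul.1 h

theorem commutator_le (hm : 2 ≤ m) (hrest : ∀ a b, (∀ i, a ≠ Fr.xc i ∧ a ≠ Fr.yc i) →
    (∀ i, b ≠ Fr.xc i ∧ b ≠ Fr.yc i) → a = b) (htop : Fr.bigSub = ⊤) :
    commutator (O Q) ≤ Fr.eichSub := by
  have := Fr.eichSub_normal htop
  let π := QuotientGroup.mk' Fr.eichSub
  have hpm : ∀ {i j : Fin m}, i ≠ j → ∀ c : F,
      π (refl Q (Fr.x i - c • Fr.y i)) = π (refl Q (Fr.x j - c • Fr.y j)) := by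
    intro i j hij c
    obtain ⟨g, hg, gx, gy⟩ := Fr.exists_pair_move hij
    have h := refl_conj g (Fr.x i - c • Fr.y i)
    rw [map_sub, map_smul, gx, gy] at h
    rw [← h, map_mul, map_mul, map_inv,
      show π g = 1 from (QuotientGroup.eq_one_iff g).2 hg, one_mul, inv_one, mul_one]
  have hcomm : ∀ s ∈ Fr.reflSet, ∀ s' ∈ Fr.reflSet, Commute (π s) (π s') := by
    have hrp : ∀ b, (∀ i, b ≠ Fr.xc i ∧ b ≠ Fr.yc i) → ∀ i (c : F),
        Commute (refl Q (Fr.x i - c • Fr.y i)) (refl Q (Pi.single b 1)) := fun b hb i c => by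
      obtain ⟨q1, q2⟩ := Fr.p_rest hb i
      have h := refl_conj (refl Q (Fr.x i - c • Fr.y i)) (Pi.single b 1)
      rw [Fr.app_refl_perp i c q1 q2] at h
      exact mul_inv_eq_iff_eq_mul.1 h
    rintro s (⟨i, c, -, rfl⟩ | ⟨a, ha, rfl⟩) s' (⟨j, d, -, rfl⟩ | ⟨b, hb, rfl⟩)
    · by_cases hij : i = j
      · subst hij
        obtain ⟨k, hk⟩ : ∃ k : Fin m, k ≠ i := by
          by_cases h0 : i.val = 0
          · exact ⟨⟨1, by omega⟩, fun e => by have := congrArg Fin.val e; simp_all⟩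
          · exact ⟨⟨0, by omega⟩, fun e => h0 (congrArg Fin.val e).symm⟩
        rw [hpm (Ne.symm hk) d]
        exact (Fr.reflPair_commute (Ne.symm hk) c d).map π
      · exact (Fr.reflPair_commute hij c d).map π
    · exact (hrp b hb i c).map π
    · exact ((hrp a ha j d).symm).map π
    · rw [hrest a b ha hb]
  have hgen : Subgroup.closure (π '' Fr.reflSet) = ⊤ := by
    rw [eq_top_iff, ← (MonoidHom.range_eq_top (f := π)).2 (QuotientGroup.mk'_surjective _),
      MonoidHom.range_eq_map, ← htop, bigSub, Subgroup.map_sup, MonoidHom.map_closure,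
      (Subgroup.map_eq_bot_iff _).2 (by rw [QuotientGroup.ker_mk'])]
    exact sup_le bot_le le_rfl
  have hab : ∀ x y : O Q ⧸ Fr.eichSub, x * y = y * x := by
    have hc : IsMulCommutative (Subgroup.closure (π '' Fr.reflSet)) :=
      Subgroup.isMulCommutative_closure fun x ⟨s, hs, hx⟩ y ⟨s', hs', hy⟩ => by
        rw [← hx, ← hy]; exact hcomm s hs s' hs'
    intro x y
    exact congrArg Subtype.val (hc.is_comm.comm ⟨x, hgen ▸ Subgroup.mem_top x⟩ ⟨y, hgen ▸ Subgroup.mem_top y⟩)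
  rw [commutator_def, Subgroup.commutator_le]
  intro g _ h _
  refine (QuotientGroup.eq_one_iff _).1 ?_
  show π ⁅g, h⁆ = 1
  rw [map_commutatorElement, commutatorElement_eq_one_iff_mul_comm, hab]

theorem eich_mem_of_basis {i : Fin m} {u : ι → F} (hu : u = Fr.x i ∨ u = Fr.y i)
    (H : Subgroup (O Q))
    (hb : ∀ b, b ≠ Fr.xc i → b ≠ Fr.yc i → ∀ t : F, eich Q u (t • Pi.single b 1) ∈ H)
    {a : ι → F} (h1 : polar Q (Fr.x i) a = 0) (h2 : polar Q (Fr.y i) a = 0) : eich Q u a ∈ H := by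
  have hperp : ∀ b, b ≠ Fr.xc i → b ≠ Fr.yc i →
      polar Q (Fr.x i) (Pi.single b 1) = 0 ∧ polar Q (Fr.y i) (Pi.single b 1) = 0 := by
    intro b hbx hby
    obtain ⟨k, rfl | rfl⟩ | ⟨-, h⟩ := Fr.rest b
    · have hne : k ≠ i := fun e => hbx (e ▸ rfl)
      exact ⟨Fr.p_xx i k, by rw [show (Pi.single (Fr.xc k) 1 : ι → F) = Fr.x k from rfl, Fr.p_yx,
        if_neg (Ne.symm hne)]⟩
    · have hne : k ≠ i := fun e => hby (e ▸ rfl)
      exact ⟨by rw [show (Pi.single (Fr.yc k) 1 : ι → F) = Fr.y k from rfl, Fr.p_xy,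
        if_neg (Ne.symm hne)], Fr.p_yy i k⟩
    · rw [x, y, polar_comm, Fr.hpol, polar_comm, Fr.hpol, (h i).1, (h i).2, Int.cast_zero]
      exact ⟨rfl, rfl⟩
  have hne : Fr.xc i ≠ Fr.yc i := fun e => by
    have := Fr.pol_xy i i
    rw [if_pos rfl, ← e, Fr.pol_xx] at this
    exact absurd this (by decide)
  set z := ∑ b ∈ ((Finset.univ.erase (Fr.xc i)).erase (Fr.yc i)), a b • (Pi.single b 1 : ι → F) with hz
  have haz : a = a (Fr.xc i) • Fr.x i + a (Fr.yc i) • Fr.y i + z := by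
    conv_lhs => rw [decomp a]
    rw [← Finset.add_sum_erase _ _ (Finset.mem_univ (Fr.xc i)),
      ← Finset.add_sum_erase _ _ (Finset.mem_erase.2 ⟨Ne.symm hne, Finset.mem_univ (Fr.yc i)⟩),
      ← add_assoc]
    rfl
  have hmem : ∀ b ∈ (Finset.univ.erase (Fr.xc i)).erase (Fr.yc i), b ≠ Fr.xc i ∧ b ≠ Fr.yc i :=
    fun b hb => ⟨(Finset.mem_erase.1 (Finset.mem_erase.1 hb).2).1, (Finset.mem_erase.1 hb).1⟩
  have hQu : Q u = 0 := by rcases hu with rfl | rfl; exacts [Fr.Q_x i, Fr.Q_y i]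
  have hzp : ∀ s : Finset ι, (∀ b ∈ s, b ≠ Fr.xc i ∧ b ≠ Fr.yc i) →
      polar Q (Fr.x i) (∑ b ∈ s, a b • (Pi.single b 1 : ι → F)) = 0 ∧
      polar Q (Fr.y i) (∑ b ∈ s, a b • (Pi.single b 1 : ι → F)) = 0 ∧
      eich Q u (∑ b ∈ s, a b • (Pi.single b 1 : ι → F)) ∈ H := by
    intro s
    induction s using Finset.induction_on with
    | empty =>
      intro _
      rw [Finset.sum_empty, polar_zero_right, polar_zero_right, CfsgLib.POmega.eich_zero_right hQu]
      exact ⟨rfl, rfl, one_mem _⟩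
    | insert b s hbs ih =>
      intro hs
      obtain ⟨i1, i2, i3⟩ := ih fun c hc => hs c (Finset.mem_insert_of_mem hc)
      obtain ⟨b1, b2⟩ := hs b (Finset.mem_insert_self b s)
      obtain ⟨p1, p2⟩ := hperp b b1 b2
      have e1 : polar Q (Fr.x i) (a b • Pi.single b 1) = 0 := by rw [polar_smul_right, p1, smul_zero]
      have e2 : polar Q (Fr.y i) (a b • Pi.single b 1) = 0 := by rw [polar_smul_right, p2, smul_zero]
      rw [Finset.sum_insert hbs]
      refine ⟨by rw [polar_add_right, e1, i1, add_zero], by rw [polar_add_right, e2, i2, add_zero], ?_⟩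
      rw [← eich_add hQu (a := a b • Pi.single b 1) (by rcases hu with rfl | rfl <;> assumption)
        (by rcases hu with rfl | rfl <;> assumption)]
      exact mul_mem (hb b b1 b2 (a b)) i3
  obtain ⟨z1, z2, z3⟩ := hzp _ hmem
  rw [← hz] at z1 z2 z3
  have c1 : a (Fr.yc i) = 0 := by
    rw [haz] at h1
    simpa [polar_add_right, polar_smul_right, Fr.p_xx, Fr.p_xy, z1] using h1
  have c2 : a (Fr.xc i) = 0 := by
    rw [haz] at h2
    simpa [polar_add_right, polar_smul_right, Fr.p_yy, Fr.p_yx, z2] using h2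
  rwa [haz, c1, c2, zero_smul, zero_smul, zero_add, zero_add]

theorem eichSub_le_commutator
    (hF : (∃ c : F, c ≠ 0 ∧ c ≠ 1) ∨ (3 ≤ m ∧ ∀ a, ∃ i, a = Fr.xc i ∨ a = Fr.yc i)) :
    Fr.eichSub ≤ commutator (O Q) := by
  refine (Subgroup.closure_le _).2 ?_
  rintro _ ⟨i, u, a, hu, h1, h2, rfl⟩
  have hQu : Q u = 0 := by rcases hu with rfl | rfl; exacts [Fr.Q_x i, Fr.Q_y i]
  rcases hF with ⟨c, hc0, hc1⟩ | ⟨hm, hpairs⟩
  · obtain ⟨d, hd, hfix⟩ : ∃ d : F, d ≠ 1 ∧
        app (refl Q (Fr.x i - c • Fr.y i) * refl Q (Fr.x i - (1 : F) • Fr.y i)) u = d • u := by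
      rcases hu with rfl | rfl
      · refine ⟨c⁻¹, fun e => hc1 (inv_eq_one.1 e), ?_⟩
        rw [app_mul, Fr.app_refl_x i one_ne_zero, one_smul, Fr.app_refl_y i hc0]
      · refine ⟨c, hc1, ?_⟩
        rw [app_mul, Fr.app_refl_y i one_ne_zero, inv_one, one_smul, Fr.app_refl_x i hc0]
    set t := refl Q (Fr.x i - c • Fr.y i) * refl Q (Fr.x i - (1 : F) • Fr.y i)
    have hpu : ∀ e : F, polar Q u (e • a) = 0 := fun e => by
      rcases hu with rfl | rfl <;> simp [polar_smul_right, h1, h2]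
    have hperp : ∀ e : F, app t (e • a) = e • a := fun e => by
      have e1 : polar Q (e • a) (Fr.x i) = 0 := by rw [polar_comm, polar_smul_right, h1, smul_zero]
      have e2 : polar Q (e • a) (Fr.y i) = 0 := by rw [polar_comm, polar_smul_right, h2, smul_zero]
      rw [app_mul, Fr.app_refl_perp i 1 e1 e2, Fr.app_refl_perp i c e1 e2]
    set e := (d - 1)⁻¹
    have hd1 : d - 1 ≠ 0 := sub_ne_zero.2 hd
    have key : ⁅t, eich Q u (e • a)⁆ = eich Q u a := by
      rw [commutatorElement_def, eich_conj hQu (hpu e), hfix, hperp,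
        CfsgLib.POmega.eich_smul hQu (hpu e), CfsgLib.POmega.eich_neg_inv hQu (hpu e),
        eich_add hQu (by rw [polar_smul_right, hpu e, smul_zero]) (by rw [polar_neg_right, hpu e, neg_zero])]
      congr 1
      rw [smul_smul, ← neg_smul, ← add_smul, show d * e + -e = (d - 1) * e by ring,
        mul_inv_cancel₀ hd1, one_smul]
    rw [← key]
    exact Subgroup.commutator_mem_commutator (Subgroup.mem_top _) (Subgroup.mem_top _)
  · refine Fr.eich_mem_of_basis hu _ (fun b hbx hby t => ?_) h1 h2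
    obtain ⟨j, hj⟩ := hpairs b
    have hji : j ≠ i := by
      rcases hj with rfl | rfl
      · exact fun e => hbx (e ▸ rfl)
      · exact fun e => hby (e ▸ rfl)
    obtain ⟨k, hki, hkj⟩ : ∃ k : Fin m, k ≠ i ∧ k ≠ j := by
      by_cases h0 : i.val = 0 ∨ j.val = 0
      · by_cases h1 : i.val = 1 ∨ j.val = 1
        · exact ⟨⟨2, by omega⟩, Fin.ne_of_val_ne (by simp only []; omega),
            Fin.ne_of_val_ne (by simp only []; omega)⟩
        · exact ⟨⟨1, by omega⟩, Fin.ne_of_val_ne (by simp only []; omega),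
            Fin.ne_of_val_ne (by simp only []; omega)⟩
      · exact ⟨⟨0, by omega⟩, Fin.ne_of_val_ne (by simp only []; omega),
          Fin.ne_of_val_ne (by simp only []; omega)⟩
    -- a transformation moving `-t • y k` by `t • w`, fixing `u`
    set w : ι → F := Pi.single b 1 with hw
    have hwj : w = Fr.x j ∨ w = Fr.y j := by
      rcases hj with rfl | rfl; exacts [Or.inl rfl, Or.inr rfl]
    have hQw : Q w = 0 := by rcases hwj with e | e <;> rw [e]; exacts [Fr.Q_x j, Fr.Q_y j]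
    have hwk : polar Q w (Fr.x k) = 0 ∧ polar Q w (Fr.y k) = 0 := by
      rcases hwj with e | e <;> rw [e]
      · exact ⟨Fr.p_xx j k, by rw [Fr.p_xy, if_neg (Ne.symm hkj)]⟩
      · exact ⟨by rw [Fr.p_yx, if_neg (Ne.symm hkj)], Fr.p_yy j k⟩
    have huw : polar Q u w = 0 ∧ polar Q u (Fr.x k) = 0 ∧ polar Q u (Fr.y k) = 0 := by
      rcases hu with rfl | rfl <;> refine ⟨?_, ?_, ?_⟩
      · rcases hwj with e | e <;> rw [e]; exacts [Fr.p_xx i j, by rw [Fr.p_xy, if_neg (Ne.symm hji)]]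
      · exact Fr.p_xx i k
      · rw [Fr.p_xy, if_neg (Ne.symm hki)]
      · rcases hwj with e | e <;> rw [e]; exacts [by rw [Fr.p_yx, if_neg (Ne.symm hji)], Fr.p_yy i j]
      · rw [Fr.p_yx, if_neg (Ne.symm hki)]
      · exact Fr.p_yy i k
    set g := eich Q w (Fr.x k)
    have hgu : app g u = u := by
      rw [app_eich hQw hwk.1, huw.1, huw.2.1]; simp
    have hgy : app g (-t • Fr.y k) = -t • Fr.y k + t • w := by
      rw [map_smul, app_eich hQw hwk.1, polar_comm (f := ⇑Q) (Fr.y k) w, hwk.2, Fr.Q_x, Fr.p_yx,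
        if_pos rfl]
      module
    have hp : polar Q u (-t • Fr.y k) = 0 := by rw [polar_smul_right, huw.2.2, smul_zero]
    have key : ⁅g, eich Q u (-t • Fr.y k)⁆ = eich Q u (t • w) := by
      rw [commutatorElement_def, eich_conj hQu hp, hgu, hgy, CfsgLib.POmega.eich_neg_inv hQu hp,
        eich_add hQu (by rw [polar_add_right, hp, polar_smul_right, huw.1, smul_zero, add_zero])
          (by rw [polar_neg_right, hp, neg_zero])]
      congr 1
      abel
    rw [← key]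
    exact Subgroup.commutator_mem_commutator (Subgroup.mem_top _) (Subgroup.mem_top _)

end Frame

end CfsgLib.OrthIso
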