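import Cfsg.Agent.Lib.Orth.Siegel
import Cfsg.Agent.Lib.POmega.Basic

/-!
Orthogonal spaces with a frame of hyperbolic pairs, over any field: the group of isometries is
generated by the Eichler transformations of the pairs and reflections, and the commutator subgroup
is generated by the Eichler transformations.
-/

set_option autoImplicit false

namespace CfsgLib.OrthIso

open QuadraticMap CfsgLib.Orth

variable {ι : Type} [Fintype ι] [DecidableEq ι] {F : Type*} [Field F]

/-- A basis of coordinate vectors made of `m` hyperbolic pairs and a rest, with the values of the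
form on it. -/
structure Frame (Q : QuadraticForm F (ι → F)) (m : ℕ) where
  xc : Fin m → ι
  yc : Fin m → ι
  pol : ι → ι → ℤ
  qd : ι → ℤ
  hpol : ∀ a b, polar Q (Pi.single a 1) (Pi.single b 1) = (pol a b : F)
  hqd : ∀ a, Q (Pi.single a 1) = (qd a : F)
  qd_xc : ∀ i, qd (xc i) = 0
  qd_yc : ∀ i, qd (yc i) = 0
  pol_xy : ∀ i j, pol (xc i) (yc j) = if i = j then 1 else 0
  pol_xx : ∀ i j, pol (xc i) (xc j) = 0
  pol_yy : ∀ i j, pol (yc i) (yc j) = 0
  rest : ∀ a, (∃ i, a = xc i ∨ a = yc i) ∨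
    (qd a = 1 ∧ ∀ i, pol a (xc i) = 0 ∧ pol a (yc i) = 0)
  rad : ∀ v, Q v = 0 → (∀ u, polar Q v u = 0) → v = 0

variable {Q : QuadraticForm F (ι → F)} {m : ℕ} (Fr : Frame Q m)

namespace Frame

/-- The first vector of a pair. -/
def x (i : Fin m) : ι → F := Pi.single (Fr.xc i) 1

/-- The second vector of a pair. -/
def y (i : Fin m) : ι → F := Pi.single (Fr.yc i) 1

theorem Q_x (i : Fin m) : Q (Fr.x i) = 0 := by rw [x, Fr.hqd, Fr.qd_xc, Int.cast_zero]

theorem Q_y (i : Fin m) : Q (Fr.y i) = 0 := by rw [y, Fr.hqd, Fr.qd_yc, Int.cast_zero]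

theorem p_xy (i j : Fin m) : polar Q (Fr.x i) (Fr.y j) = if i = j then 1 else 0 := by
  rw [x, y, Fr.hpol, Fr.pol_xy]; split <;> simp

theorem p_yx (i j : Fin m) : polar Q (Fr.y i) (Fr.x j) = if i = j then 1 else 0 := by
  rw [polar_comm, p_xy]; simp [eq_comm]

theorem p_xx (i j : Fin m) : polar Q (Fr.x i) (Fr.x j) = 0 := by
  rw [x, x, Fr.hpol, Fr.pol_xx, Int.cast_zero]

theorem p_yy (i j : Fin m) : polar Q (Fr.y i) (Fr.y j) = 0 := by
  rw [y, y, Fr.hpol, Fr.pol_yy, Int.cast_zero]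

/-- A vector of the frame: one of a pair. -/
def IsPair (u : ι → F) : Prop := ∃ i, u = Fr.x i ∨ u = Fr.y i

/-- The group generated by the Eichler transformations of the pairs. -/
noncomputable def eichSub : Subgroup (O Q) :=
  Subgroup.closure {g | ∃ i, ∃ u a : ι → F, (u = Fr.x i ∨ u = Fr.y i) ∧
    polar Q (Fr.x i) a = 0 ∧ polar Q (Fr.y i) a = 0 ∧ g = eich Q u a}

theorem eich_x_mem {i : Fin m} {a : ι → F} (h1 : polar Q (Fr.x i) a = 0)
    (h2 : polar Q (Fr.y i) a = 0) : eich Q (Fr.x i) a ∈ Fr.eichSub :=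
  Subgroup.subset_closure ⟨i, _, a, Or.inl rfl, h1, h2, rfl⟩

theorem eich_y_mem {i : Fin m} {a : ι → F} (h1 : polar Q (Fr.x i) a = 0)
    (h2 : polar Q (Fr.y i) a = 0) : eich Q (Fr.y i) a ∈ Fr.eichSub :=
  Subgroup.subset_closure ⟨i, _, a, Or.inr rfl, h1, h2, rfl⟩

/-- The reflections used: in the pairs, and in the rest. -/
def reflSet : Set (O Q) :=
  {g | (∃ i, ∃ c : F, c ≠ 0 ∧ g = refl Q (Fr.x i - c • Fr.y i)) ∨
    ∃ a, (∀ i, a ≠ Fr.xc i ∧ a ≠ Fr.yc i) ∧ g = refl Q (Pi.single a 1)}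

/-- The group generated by both. -/
noncomputable def bigSub : Subgroup (O Q) := Fr.eichSub ⊔ Subgroup.closure Fr.reflSet

theorem refl_mem_big {i : Fin m} {c : F} (hc : c ≠ 0) :
    refl Q (Fr.x i - c • Fr.y i) ∈ Fr.bigSub :=
  Subgroup.mem_sup_right (Subgroup.subset_closure (Or.inl ⟨i, c, hc, rfl⟩))

theorem Q_sub_smul (i : Fin m) (c : F) : Q (Fr.x i - c • Fr.y i) = -c := by
  rw [sub_eq_add_neg, ← neg_smul, QuadraticMap.map_add ⇑Q, QuadraticMap.map_smul, polar_smul_right,
    Fr.Q_x, Fr.Q_y, Fr.p_xy, if_pos rfl]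
  simp

theorem app_refl_x (i : Fin m) {c : F} (hc : c ≠ 0) :
    app (refl Q (Fr.x i - c • Fr.y i)) (Fr.x i) = c • Fr.y i := by
  rw [app_refl, Fr.Q_sub_smul, polar_sub_right, polar_smul_right, Fr.p_xx, Fr.p_xy, if_pos rfl]
  simp only [smul_eq_mul, mul_one, zero_sub]
  rw [inv_mul_cancel₀ (neg_ne_zero.2 hc), one_smul, sub_sub_cancel]

theorem app_refl_y (i : Fin m) {c : F} (hc : c ≠ 0) :
    app (refl Q (Fr.x i - c • Fr.y i)) (Fr.y i) = c⁻¹ • Fr.x i := by
  rw [app_refl, Fr.Q_sub_smul, polar_sub_right, polar_smul_right, Fr.p_yy, Fr.p_yx, if_pos rfl]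
  simp only [smul_eq_mul, mul_zero, sub_zero, mul_one]
  match_scalars <;> field_simp <;> ring

theorem app_refl_perp (i : Fin m) (c : F) {v : ι → F} (h1 : polar Q v (Fr.x i) = 0)
    (h2 : polar Q v (Fr.y i) = 0) : app (refl Q (Fr.x i - c • Fr.y i)) v = v :=
  app_refl_of_ortho (by rw [polar_sub_right, polar_smul_right, h1, h2, smul_zero, sub_zero])

/-- Fixing the first `k` pairs. -/
def FixUpTo (k : ℕ) (g : O Q) : Prop :=
  ∀ j : Fin m, j.val < k → app g (Fr.x j) = Fr.x j ∧ app g (Fr.y j) = Fr.y j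

theorem fix_refl_pair {j i : Fin m} (hji : j ≠ i) (c : F) :
    app (refl Q (Fr.x i - c • Fr.y i)) (Fr.x j) = Fr.x j ∧
      app (refl Q (Fr.x i - c • Fr.y i)) (Fr.y j) = Fr.y j :=
  ⟨Fr.app_refl_perp i c (Fr.p_xx j i) (by rw [Fr.p_xy, if_neg hji]),
    Fr.app_refl_perp i c (by rw [Fr.p_yx, if_neg hji]) (Fr.p_yy j i)⟩

theorem fix_eich {i : Fin m} {u a : ι → F} (hu : u = Fr.x i ∨ u = Fr.y i)
    (h1 : polar Q (Fr.x i) a = 0) (h2 : polar Q (Fr.y i) a = 0) {w : ι → F}
    (hw1 : polar Q w (Fr.x i) = 0) (hw2 : polar Q w (Fr.y i) = 0) (hwa : polar Q w a = 0) :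
    app (eich Q u a) w = w := by
  rcases hu with rfl | rfl
  · rw [app_eich (Fr.Q_x i) h1, hw1, hwa]; simp
  · rw [app_eich (Fr.Q_y i) h2, hw2, hwa]; simp

theorem step_x (k : Fin m) {v : ι → F} (hv : Q v = 0) (hv0 : v ≠ 0)
    (hperp : ∀ j : Fin m, j.val < k.val → polar Q v (Fr.x j) = 0 ∧ polar Q v (Fr.y j) = 0) :
    ∃ h ∈ Fr.bigSub, app h v = Fr.x k ∧ Fr.FixUpTo k.val h := by
  -- a move from `v` to one with both pair coordinates ready
  have scale : ∀ (β : F), β ≠ 0 → ∃ h ∈ Fr.bigSub, app h (β • Fr.y k) = Fr.x k ∧ Fr.FixUpTo k.val h :=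
    fun β hβ => ⟨refl Q (Fr.x k - β • Fr.y k), Fr.refl_mem_big hβ,
      by rw [map_smul, Fr.app_refl_y k hβ, smul_smul, mul_inv_cancel₀ hβ, one_smul],
      fun j hj => Fr.fix_refl_pair (fun e => by omega) β⟩
  have caseY : ∀ w, Q w = 0 → polar Q w (Fr.x k) ≠ 0 →
      (∀ j : Fin m, j.val < k.val → polar Q w (Fr.x j) = 0 ∧ polar Q w (Fr.y j) = 0) →
      ∃ h ∈ Fr.bigSub, app h w = Fr.x k ∧ Fr.FixUpTo k.val h := by
    intro w hw hβ hwp
    set β := polar Q w (Fr.x k) with hβdef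
    set z := w - polar Q w (Fr.y k) • Fr.x k - β • Fr.y k with hz
    have hzx : polar Q (Fr.x k) z = 0 := by
      rw [hz, polar_sub_right, polar_sub_right, polar_smul_right, polar_smul_right, Fr.p_xx, Fr.p_xy,
        if_pos rfl, polar_comm (f := ⇑Q) (Fr.x k) w]
      simp [hβdef]
    have hzy : polar Q (Fr.y k) z = 0 := by
      rw [hz, polar_sub_right, polar_sub_right, polar_smul_right, polar_smul_right, Fr.p_yy, Fr.p_yx,
        if_pos rfl, polar_comm (f := ⇑Q) (Fr.y k) w]
      simp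
    set a := (-β⁻¹) • z with ha
    have hax : polar Q (Fr.x k) a = 0 := by rw [ha, polar_smul_right, hzx, smul_zero]
    have hay : polar Q (Fr.y k) a = 0 := by rw [ha, polar_smul_right, hzy, smul_zero]
    set e := eich Q (Fr.x k) a
    obtain ⟨α', hα'⟩ : ∃ α' : F, app e w = α' • Fr.x k + β • Fr.y k := by
      refine ⟨polar Q w (Fr.y k) + (-(polar Q w a) - Q a * β), ?_⟩
      rw [app_eich (Fr.Q_x k) hax, ← hβdef, ha, smul_smul, mul_neg, mul_inv_cancel₀ hβ, neg_one_smul,
        hz]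
      module
    have hα0 : α' = 0 := by
      have h := Q_app e w
      rw [hα', hw, QuadraticMap.map_add ⇑Q, QuadraticMap.map_smul, QuadraticMap.map_smul, Fr.Q_x,
        Fr.Q_y, polar_smul_left, polar_smul_right, Fr.p_xy, if_pos rfl] at h
      simpa [hβ] using h
    obtain ⟨h, hh, he, hfix⟩ := scale β hβ
    refine ⟨h * e, mul_mem hh (Subgroup.mem_sup_left (Fr.eich_x_mem hax hay)), ?_, fun j hj => ?_⟩
    · rw [app_mul, hα', hα0, zero_smul, zero_add, he]
    · have hne : j ≠ k := fun e => by omega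
      have haj : polar Q (Fr.x j) a = 0 ∧ polar Q (Fr.y j) a = 0 := by
        rw [ha, polar_smul_right, polar_smul_right, hz, polar_sub_right, polar_sub_right,
          polar_sub_right, polar_sub_right, polar_smul_right, polar_smul_right, polar_smul_right,
          polar_smul_right, Fr.p_xx, Fr.p_xy, Fr.p_yx, Fr.p_yy, if_neg hne,
          polar_comm (f := ⇑Q) (Fr.x j) w, polar_comm (f := ⇑Q) (Fr.y j) w, (hwp j hj).1, (hwp j hj).2]
        simp
      constructor
      · rw [app_mul, Fr.fix_eich (Or.inl rfl) hax hay (Fr.p_xx j k) (by rw [Fr.p_xy, if_neg hne]) haj.1,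
          (hfix j hj).1]
      · rw [app_mul, Fr.fix_eich (Or.inl rfl) hax hay (by rw [Fr.p_yx, if_neg hne]) (Fr.p_yy j k) haj.2,
          (hfix j hj).2]
  by_cases hβ : polar Q v (Fr.x k) = 0
  swap
  · exact caseY v hv hβ hperp
  by_cases hα : polar Q v (Fr.y k) = 0
  swap
  · -- swap the pair first
    set s := refl Q (Fr.x k - (1 : F) • Fr.y k)
    have hs : s ∈ Fr.bigSub := Fr.refl_mem_big one_ne_zero
    have e1 : polar Q (app s v) (Fr.x k) = polar Q v (Fr.y k) := by
      conv_lhs => rw [show Fr.x k = app s (Fr.y k) by rw [Fr.app_refl_y k one_ne_zero, inv_one, one_smul]]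
      exact polar_app s _ _
    have hfx : ∀ j : Fin m, j.val < k.val → app s (Fr.x j) = Fr.x j ∧ app s (Fr.y j) = Fr.y j :=
      fun j hj => Fr.fix_refl_pair (fun e => by omega) 1
    obtain ⟨h, hh, he, hfix⟩ := caseY (app s v) (by rw [Q_app, hv]) (e1 ▸ hα) fun j hj => by
      conv => congr <;> lhs
      rw [← (hfx j hj).1, polar_app, ← (hfx j hj).2, polar_app]
      exact hperp j hj
    exact ⟨h * s, mul_mem hh hs, by rw [app_mul, he],
      fun j hj => ⟨by rw [app_mul, (hfx j hj).1, (hfix j hj).1],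
        by rw [app_mul, (hfx j hj).2, (hfix j hj).2]⟩⟩
  -- both coordinates vanish: create one
  obtain ⟨a0, ha0⟩ : ∃ u, polar Q v u ≠ 0 := by
    by_contra hh
    push Not at hh
    exact hv0 (Fr.rad v hv hh)
  set S : Finset (Fin m) := Finset.univ.filter fun j => j.val ≤ k.val
  set a := a0 - ∑ j ∈ S, (polar Q a0 (Fr.y j) • Fr.x j + polar Q a0 (Fr.x j) • Fr.y j) with ha
  have hva : polar Q v a = polar Q v a0 := by
    have hsum : polar Q v (∑ j ∈ S, (polar Q a0 (Fr.y j) • Fr.x j + polar Q a0 (Fr.x j) • Fr.y j)) = 0 := by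
      rw [← QuadraticMap.polarBilin_apply_apply, map_sum]
      refine Finset.sum_eq_zero fun j hj => ?_
      simp only [S, Finset.mem_filter, Finset.mem_univ, true_and] at hj
      rw [QuadraticMap.polarBilin_apply_apply, polar_add_right, polar_smul_right, polar_smul_right]
      rcases Nat.lt_or_eq_of_le hj with h | h
      · rw [(hperp j h).1, (hperp j h).2]; simp
      · rw [Fin.ext h, hβ, hα]; simp
    rw [ha, polar_sub_right, hsum, sub_zero]
  have haS : ∀ j ∈ S, polar Q (Fr.x j) a = 0 ∧ polar Q (Fr.y j) a = 0 := by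
    intro j hj
    constructor
    · rw [ha, polar_sub_right, ← QuadraticMap.polarBilin_apply_apply Q (Fr.x j) (∑ _ ∈ _, _), map_sum,
        Finset.sum_eq_single j (fun i _ hi => ?_) (fun h => absurd hj h)]
      · simp [QuadraticMap.polarBilin_apply_apply, polar_add_right, polar_smul_right, Fr.p_xx, Fr.p_xy,
          polar_comm (f := ⇑Q) (Fr.x j) a0]
      · simp [QuadraticMap.polarBilin_apply_apply, polar_add_right, polar_smul_right, Fr.p_xx, Fr.p_xy,
          Ne.symm hi]
    · rw [ha, polar_sub_right, ← QuadraticMap.polarBilin_apply_apply Q (Fr.y j) (∑ _ ∈ _, _), map_sum,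
        Finset.sum_eq_single j (fun i _ hi => ?_) (fun h => absurd hj h)]
      · simp [QuadraticMap.polarBilin_apply_apply, polar_add_right, polar_smul_right, Fr.p_yy, Fr.p_yx,
          polar_comm (f := ⇑Q) (Fr.y j) a0]
      · simp [QuadraticMap.polarBilin_apply_apply, polar_add_right, polar_smul_right, Fr.p_yy, Fr.p_yx,
          Ne.symm hi]
  obtain ⟨hax, hay⟩ := haS k (by simp [S])
  set e := eich Q (Fr.y k) a
  have he : app e v = v - polar Q v a • Fr.y k := by
    rw [app_eich (Fr.Q_y k) hay, hα]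
    module
  have hfx : ∀ j : Fin m, j.val < k.val → app e (Fr.x j) = Fr.x j ∧ app e (Fr.y j) = Fr.y j := by
    intro j hj
    obtain ⟨j1, j2⟩ := haS j (by simp only [S, Finset.mem_filter, Finset.mem_univ, true_and]; omega)
    have hne : j ≠ k := fun e => by omega
    exact ⟨Fr.fix_eich (Or.inr rfl) hax hay (Fr.p_xx j k) (by rw [Fr.p_xy, if_neg hne]) j1,
      Fr.fix_eich (Or.inr rfl) hax hay (by rw [Fr.p_yx, if_neg hne]) (Fr.p_yy j k) j2⟩
  obtain ⟨h, hh, hhe, hfix⟩ := caseY (app e v) (by rw [Q_app, hv])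
    (by rw [he, polar_sub_left, polar_smul_left, hβ, Fr.p_yx, if_pos rfl, hva]; simpa using ha0)
    fun j hj => by
      have hne : k ≠ j := fun e => by omega
      rw [he, polar_sub_left, polar_smul_left, polar_sub_left, polar_smul_left, Fr.p_yx, Fr.p_yy,
        if_neg hne, (hperp j hj).1, (hperp j hj).2]
      simp
  exact ⟨h * e, mul_mem hh (Subgroup.mem_sup_left (Fr.eich_y_mem hax hay)), by rw [app_mul, hhe],
    fun j hj => ⟨by rw [app_mul, (hfx j hj).1, (hfix j hj).1],
      by rw [app_mul, (hfx j hj).2, (hfix j hj).2]⟩⟩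

theorem step_y (k : Fin m) {g : O Q} (hg : Fr.FixUpTo k.val g) (hx : app g (Fr.x k) = Fr.x k) :
    ∃ h ∈ Fr.bigSub, Fr.FixUpTo (k.val + 1) (h * g) := by
  set v := app g (Fr.y k) with hv
  have hvk : polar Q v (Fr.x k) = 1 := by
    conv_lhs => rw [← hx]
    rw [hv, polar_app, Fr.p_yx, if_pos rfl]
  have hvQ : Q v = 0 := by rw [hv, Q_app, Fr.Q_y]
  have hperp : ∀ j : Fin m, j.val < k.val → polar Q v (Fr.x j) = 0 ∧ polar Q v (Fr.y j) = 0 := by
    intro j hj
    have hne : k ≠ j := fun e => by omega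
    constructor
    · conv_lhs => rw [← (hg j hj).1]
      rw [hv, polar_app, Fr.p_yx, if_neg hne]
    · conv_lhs => rw [← (hg j hj).2]
      rw [hv, polar_app, Fr.p_yy]
  set z := v - polar Q v (Fr.y k) • Fr.x k - Fr.y k with hz
  have hzx : polar Q (Fr.x k) z = 0 := by
    rw [hz, polar_sub_right, polar_sub_right, polar_smul_right, Fr.p_xx, Fr.p_xy, if_pos rfl,
      polar_comm (f := ⇑Q) (Fr.x k) v, hvk]
    simp
  have hzy : polar Q (Fr.y k) z = 0 := by
    rw [hz, polar_sub_right, polar_sub_right, polar_smul_right, Fr.p_yy, Fr.p_yx, if_pos rfl,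
      polar_comm (f := ⇑Q) (Fr.y k) v]
    simp
  set a := -z with ha
  have hax : polar Q (Fr.x k) a = 0 := by rw [ha, polar_neg_right, hzx, neg_zero]
  have hay : polar Q (Fr.y k) a = 0 := by rw [ha, polar_neg_right, hzy, neg_zero]
  set e := eich Q (Fr.x k) a
  obtain ⟨α', hα'⟩ : ∃ α' : F, app e v = α' • Fr.x k + Fr.y k :=
    ⟨polar Q v (Fr.y k) + (-(polar Q v a) - Q a), by
      rw [app_eich (Fr.Q_x k) hax, hvk, ha, hz]
      module⟩
  have hα0 : α' = 0 := by
    have h := Q_app e v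
    rw [hα', hvQ, QuadraticMap.map_add ⇑Q, QuadraticMap.map_smul, Fr.Q_x, Fr.Q_y, polar_smul_left,
      Fr.p_xy, if_pos rfl] at h
    simpa using h
  refine ⟨e, Subgroup.mem_sup_left (Fr.eich_x_mem hax hay), fun j hj => ?_⟩
  rcases Nat.lt_or_eq_of_le (Nat.lt_succ_iff.1 hj) with h | h
  · have hne : j ≠ k := fun e => by omega
    have haj : polar Q (Fr.x j) a = 0 ∧ polar Q (Fr.y j) a = 0 := by
      rw [ha, polar_neg_right, polar_neg_right, hz, polar_sub_right, polar_sub_right, polar_sub_right,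
        polar_sub_right, polar_smul_right, polar_smul_right, Fr.p_xx, Fr.p_xy, Fr.p_yx, Fr.p_yy,
        if_neg hne, polar_comm (f := ⇑Q) (Fr.x j) v, polar_comm (f := ⇑Q) (Fr.y j) v, (hperp j h).1,
        (hperp j h).2]
      simp
    constructor
    · rw [app_mul, (hg j h).1,
        Fr.fix_eich (Or.inl rfl) hax hay (Fr.p_xx j k) (by rw [Fr.p_xy, if_neg hne]) haj.1]
    · rw [app_mul, (hg j h).2,
        Fr.fix_eich (Or.inl rfl) hax hay (by rw [Fr.p_yx, if_neg hne]) (Fr.p_yy j k) haj.2]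
  · obtain rfl : j = k := Fin.ext h
    constructor
    · rw [app_mul, hx, app_eich (Fr.Q_x j) hax, Fr.p_xx, hax]
      simp
    · rw [app_mul, ← hv, hα', hα0, zero_smul, zero_add]

/-- Fixing all pairs, an isometry is a product of reflections of the rest. -/
theorem bigSub_eq_top (hbase : ∀ g : O Q, Fr.FixUpTo m g → g ∈ Fr.bigSub) : Fr.bigSub = ⊤ := by
  have key : ∀ n k : ℕ, n + k = m → ∀ g : O Q, Fr.FixUpTo k g → g ∈ Fr.bigSub := by
    intro n
    induction n with
    | zero => intro k hk g hg; exact hbase g (by rw [Nat.zero_add] at hk; exact hk ▸ hg)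
    | succ n ih =>
      intro k hk g hg
      let k' : Fin m := ⟨k, by omega⟩
      obtain ⟨h, hh, hhx, hfix⟩ := Fr.step_x k' (v := app g (Fr.x k')) (by rw [Q_app, Fr.Q_x])
        (fun e => by
          have h1 := Fr.p_xy k' k'
          rw [if_pos rfl, show Fr.x k' = 0 from app_injective g (by rw [e, map_zero]), polar_zero_left]
            at h1
          exact zero_ne_one h1)
        (fun j hj => by
          have hne : k' ≠ j := fun e => by omega
          constructor
          · conv_lhs => rw [← (hg j hj).1]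
            rw [polar_app, Fr.p_xx]
          · conv_lhs => rw [← (hg j hj).2]
            rw [polar_app, Fr.p_xy, if_neg hne])
      have hg' : Fr.FixUpTo k (h * g) := fun j hj =>
        ⟨by rw [app_mul, (hg j hj).1, (hfix j hj).1], by rw [app_mul, (hg j hj).2, (hfix j hj).2]⟩
      obtain ⟨h', hh', hfix'⟩ := Fr.step_y k' (g := h * g) hg' (by rw [app_mul, hhx])
      have := mul_mem (inv_mem hh) (mul_mem (inv_mem hh') (ih (k + 1) (by omega) _ hfix'))
      simpa using this
  exact (Subgroup.eq_top_iff' _).2 fun g => key m 0 (by omega) g fun j hj => absurd hj (Nat.not_lt_zero _)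

end Frame

end CfsgLib.OrthIso
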