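import Cfsg.Agent.Lib.OrthIso.Root
import Cfsg.Agent.Lib.POmega.Forms
import Cfsg.Agent.Lib.ChevStr.InstanceTables

/-! The frame and root table of the form in dimension five. -/

set_option autoImplicit false

namespace CfsgLib.OrthIso

open QuadraticMap CfsgLib.Orth Cfsg.Lie CfsgLib.POmega

/-- The coordinates. -/
abbrev CoordB2 := Unit ⊕ (Fin 2 ⊕ Fin 2)

/-- The polar form on coordinate vectors. -/
def polB2 : CoordB2 → CoordB2 → ℤ
  | .inl _, .inl _ => 2
  | .inr (.inl i), .inr (.inr j) => if i = j then 1 else 0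
  | .inr (.inr i), .inr (.inl j) => if i = j then 1 else 0
  | _, _ => 0

/-- The form on coordinate vectors. -/
def qdB2 : CoordB2 → ℤ
  | .inl _ => 1
  | _ => 0

/-- The root table. -/
def tabB2 (r : ℕ) : RowData CoordB2 :=
  ([(.inr (.inr 0), .inr (.inr 1), 1),
    (.inr (.inr 0), .inl (), -1),
    (.inr (.inr 1), .inl (), -1),
    (.inr (.inr 0), .inr (.inl 1), 1),
    (.inr (.inr 1), .inr (.inl 0), 1),
    (.inr (.inl 1), .inl (), 1),
    (.inr (.inl 0), .inl (), 1),
    (.inr (.inl 1), .inr (.inl 0), 1)] : List (RowData CoordB2)).getD r (.inl (), .inl (), 1)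

theorem tabB2_row : ∀ r : Fin chevB2.nroots, ∃ i,
    (((tabB2 r).1 = .inr (.inl i) ∨ (tabB2 r).1 = .inr (.inr i)) ∧
    polB2 (.inr (.inl i)) (tabB2 r).2.1 = 0 ∧ polB2 (.inr (.inr i)) (tabB2 r).2.1 = 0) := by
  decide +kernel

theorem tabB2_sign : ∀ r : Fin chevB2.nroots, (tabB2 r).2.2 = 1 ∨ (tabB2 r).2.2 = -1 := by
  decide +kernel

/-- All coordinates. -/
def allB2 : List CoordB2 :=
  [.inl (), .inr (.inl 0), .inr (.inl 1), .inr (.inr 0), .inr (.inr 1)]

theorem mem_allB2 (a : CoordB2) : a ∈ allB2 := by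
  rcases a with i | i | i
  · simp [allB2]
  all_goals fin_cases i <;> simp [allB2]

theorem tabB2_coverB : ((List.finRange 2).all fun i =>
    [(.inr (.inl i) : CoordB2), .inr (.inr i)].all fun u =>
    allB2.all fun b => decide (b = .inr (.inl i)) || decide (b = .inr (.inr i)) || (List.range chevB2.nroots).any fun r =>
      (decide ((tabB2 r).1 = u) && decide ((tabB2 r).2.1 = b)) ||
        (decide ((tabB2 r).1 = b) && (decide ((tabB2 r).2.1 = u) && decide (qdB2 b = 0)))) = true := by
  decide +kernel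

theorem tabB2_cover (i : Fin 2) (u b : CoordB2) (hu : u = .inr (.inl i) ∨ u = .inr (.inr i))
    (h1 : b ≠ .inr (.inl i)) (h2 : b ≠ .inr (.inr i)) : ∃ r : Fin chevB2.nroots,
      ((tabB2 r).1 = u ∧ (tabB2 r).2.1 = b) ∨
      ((tabB2 r).1 = b ∧ (tabB2 r).2.1 = u ∧ qdB2 b = 0) := by
  have h := tabB2_coverB
  simp only [List.all_eq_true, List.any_eq_true, Bool.or_eq_true, Bool.and_eq_true, decide_eq_true_eq,
    List.mem_finRange, List.mem_cons, List.not_mem_nil, or_false, true_implies, List.mem_range] at h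
  rcases h i u hu b (mem_allB2 b) with (e | e) | ⟨r, hr, e⟩
  exacts [absurd e h1, absurd e h2, ⟨⟨r, hr⟩, e⟩]

theorem commB2 : allCommM chevB2 polB2 qdB2 tabB2 allB2 = true := by decide +kernel

theorem termsB2 : ∀ r s, ∀ c ∈ chevB2.commTerms r s, c.1 < chevB2.nroots :=
  fun _ _ _ hc => ((CfsgLib.ChevStr.coreB2 ℚ).R.commTerms_spec hc).1

variable (F : Type*) [Field F]

/-- The frame. -/
noncomputable def frameB2 : Frame (oddQ 2 F) 2 where
  xc i := .inr (.inl i)
  yc i := .inr (.inr i)
  pol := polB2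
  qd := qdB2
  hpol a b := by
    rw [polar_oddQ]
    rcases a with i | i | i <;> rcases b with j | j | j <;>
      simp [polB2, Pi.single_apply, Finset.sum_add_distrib, eq_comm]
  hqd a := by
    rw [oddQ_coe]
    rcases a with i | i | i <;> simp [qdB2, Cfsg.quadFormOdd, Pi.single_apply]
  qd_xc _ := rfl
  qd_yc _ := rfl
  pol_xy _ _ := rfl
  pol_xx _ _ := rfl
  pol_yy _ _ := rfl
  rest a := by
    rcases a with i | i | i
    exacts [Or.inr ⟨rfl, fun _ => ⟨rfl, rfl⟩⟩, Or.inl ⟨i, Or.inl rfl⟩, Or.inl ⟨i, Or.inr rfl⟩]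
  rad v hv h := by
    have hx : ∀ i, v (.inr (.inl i)) = 0 := fun i => by
      simpa [polar_oddQ, Pi.single_apply, Finset.sum_add_distrib] using h (Pi.single (Sum.inr (Sum.inr i)) 1)
    have hy : ∀ i, v (.inr (.inr i)) = 0 := fun i => by
      simpa [polar_oddQ, Pi.single_apply, Finset.sum_add_distrib] using h (Pi.single (Sum.inr (Sum.inl i)) 1)
    rw [oddQ_coe] at hv
    simp [Cfsg.quadFormOdd, hx] at hv
    funext a
    rcases a with i | i | i
    exacts [hv, hx i, hy i]

/-- The root model. -/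
noncomputable def modelB2 : RootModel chevB2 (frameB2 F) where
  tab := tabB2
  all := allB2
  mem_all := mem_allB2
  row_ok r hr := tabB2_row ⟨r, hr⟩
  sign_ok r hr := tabB2_sign ⟨r, hr⟩
  cover i u hu b hbx hby := by
    obtain ⟨r, hr⟩ := tabB2_cover i u b hu hbx hby
    exact ⟨r, r.isLt, hr⟩
  comm := commB2

theorem omegaB2 (hF : ∃ a : F, a ≠ 0 ∧ a ≠ 1) :
    commutator (O (oddQ 2 F)) = (frameB2 F).eichSub := by
  refine le_antisymm ((frameB2 F).commutator_le le_rfl (fun a b ha hb => ?_)
    ((frameB2 F).bigSub_eq_top fun g hg => ?_)) ((frameB2 F).eichSub_le_commutator (Or.inl hF))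
  · rcases a with a | a | a
    · rcases b with b | b | b
      exacts [rfl, absurd rfl (hb b).1, absurd rfl (hb b).2]
    exacts [absurd rfl (ha a).1, absurd rfl (ha a).2]
  · set z : CoordB2 → F := Pi.single (.inl ()) 1
    set v := app g z with hv
    have hrest : ∀ i, (Sum.inl () : CoordB2) ≠ (frameB2 F).xc i ∧ (Sum.inl () : CoordB2) ≠ (frameB2 F).yc i :=
      fun i => ⟨Sum.inl_ne_inr, Sum.inl_ne_inr⟩
    have hvp : ∀ i, v (.inr (.inl i)) = 0 ∧ v (.inr (.inr i)) = 0 := fun i => by
      obtain ⟨p1, p2⟩ := (frameB2 F).p_rest hrest i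
      have e1 : polar (oddQ 2 F) v ((frameB2 F).y i) = 0 := by
        rw [← (hg i i.isLt).2, hv, polar_app]; exact p2
      have e2 : polar (oddQ 2 F) v ((frameB2 F).x i) = 0 := by
        rw [← (hg i i.isLt).1, hv, polar_app]; exact p1
      constructor
      · simpa [Frame.y, frameB2, polar_oddQ, Pi.single_apply, Finset.sum_add_distrib] using e1
      · simpa [Frame.x, frameB2, polar_oddQ, Pi.single_apply, Finset.sum_add_distrib] using e2
    obtain ⟨c, hc⟩ : ∃ c : F, v = c • z := ⟨v (.inl ()), funext fun a => by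
      rcases a with a | a | a
      · simp [z]
      · simp [z, (hvp a).1]
      · simp [z, (hvp a).2]⟩
    have hQz : oddQ 2 F z = 1 := (frameB2 F).Q_rest hrest
    have hc2 : c * c = 1 := by
      have := Q_app g z
      rw [← hv, hc, QuadraticMap.map_smul, hQz] at this
      simpa using this
    have key : ∀ h : O (oddQ 2 F), (∀ i, app h ((frameB2 F).x i) = (frameB2 F).x i ∧
        app h ((frameB2 F).y i) = (frameB2 F).y i) → app h z = c • z → g = h := by
      intro h hfix hz
      refine ext_app fun x => ?_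
      have hl : app g = app h := (Pi.basisFun F _).ext fun a => by
        rw [Pi.basisFun_apply]
        rcases a with a | a | a
        · exact hc.trans hz.symm
        · exact (hg a a.isLt).1.trans (hfix a).1.symm
        · exact (hg a a.isLt).2.trans (hfix a).2.symm
      rw [hl]
    rcases mul_self_eq_one_iff.1 hc2 with h | h
    · rw [key 1 (fun i => by simp) (by simp [h])]
      exact one_mem _
    · rw [key (refl (oddQ 2 F) z) ?_ ?_]
      · exact Subgroup.mem_sup_right (Subgroup.subset_closure (Or.inr ⟨_, hrest, rfl⟩))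
      · intro i
        obtain ⟨p1, p2⟩ := (frameB2 F).p_rest hrest i
        exact ⟨app_refl_of_ortho (by rw [polar_comm]; exact p1),
          app_refl_of_ortho (by rw [polar_comm]; exact p2)⟩
      · rw [app_refl_self (by rw [hQz]; exact one_ne_zero), h, neg_one_smul]

end CfsgLib.OrthIso
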